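import Mathlib
import Cfsg.Agent.S0253
import Cfsg.Agent.Lib.H18.AutAlt
import Cfsg.Agent.Lib.H5.PSL2Klein

/-!
# Automorphisms of perfect groups modulo the centre; `|Aut(SL₂(5))| ≤ 120` (helper5)
-/

set_option autoImplicit false

namespace Cfsg.Agent.Lib.H5.FC

open Subgroup
open scoped commutatorElement

/-- the automorphism of `S / Z(S)` induced by an automorphism of `S` -/
noncomputable def quotCenterAut {S : Type*} [Group S] (φ : MulAut S) : MulAut (S ⧸ center S) :=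
  QuotientGroup.congr (center S) (center S) φ (characteristic_iff_map_eq.mp centerCharacteristic φ)

theorem quotCenterAut_mk {S : Type*} [Group S] (φ : MulAut S) (s : S) :
    quotCenterAut φ (s : S ⧸ center S) = ((φ s : S) : S ⧸ center S) :=
  QuotientGroup.congr_mk _ _ _ _ s

/-- automorphisms of a perfect group are determined by their action modulo the centre -/
theorem quotCenterAut_injective {S : Type*} [Group S] (hperf : commutator S = ⊤) :
    Function.Injective (quotCenterAut (S := S)) := by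
  intro φ ψ h
  have hz : ∀ s : S, (φ s)⁻¹ * ψ s ∈ center S := by
    intro s
    have h1 := DFunLike.congr_fun h (s : S ⧸ center S)
    rw [quotCenterAut_mk, quotCenterAut_mk] at h1
    exact QuotientGroup.eq.mp h1
  have hle : (⁅(⊤ : Subgroup S), ⊤⁆ : Subgroup S) ≤
      (φ.toMonoidHom).eqLocus ψ.toMonoidHom := by
    rw [Subgroup.commutator_le]
    intro s _ t _
    show φ ⁅s, t⁆ = ψ ⁅s, t⁆
    have hs : ψ s = φ s * ((φ s)⁻¹ * ψ s) := by group
    have ht : ψ t = φ t * ((φ t)⁻¹ * ψ t) := by group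
    have cs := mem_center_iff.mp (hz s)
    have ct := mem_center_iff.mp (hz t)
    rw [map_commutatorElement, map_commutatorElement]
    set a := φ s
    set b := φ t
    set u := (φ s)⁻¹ * ψ s
    set v := (φ t)⁻¹ * ψ t
    rw [hs, ht, commutatorElement_def, commutatorElement_def]
    have h1 : (a * u)⁻¹ = a⁻¹ * u⁻¹ := by
      rw [mul_inv_rev]
      have := cs a⁻¹
      calc u⁻¹ * a⁻¹ = u⁻¹ * (a⁻¹ * u) * u⁻¹ := by group
        _ = u⁻¹ * (u * a⁻¹) * u⁻¹ := by rw [this]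
        _ = a⁻¹ * u⁻¹ := by group
    have h2 : (b * v)⁻¹ = b⁻¹ * v⁻¹ := by
      rw [mul_inv_rev]
      have := ct b⁻¹
      calc v⁻¹ * b⁻¹ = v⁻¹ * (b⁻¹ * v) * v⁻¹ := by group
        _ = v⁻¹ * (v * b⁻¹) * v⁻¹ := by rw [this]
        _ = b⁻¹ * v⁻¹ := by group
    rw [h1, h2]
    have e1 : a * u * (b * v) * (a⁻¹ * u⁻¹) * (b⁻¹ * v⁻¹)
        = a * (u * b) * v * a⁻¹ * u⁻¹ * b⁻¹ * v⁻¹ := by group
    rw [e1, ← cs b]
    have e2 : a * (b * u) * v * a⁻¹ * u⁻¹ * b⁻¹ * v⁻¹ = a * b * (u * (v * a⁻¹)) * u⁻¹ * b⁻¹ * v⁻¹ := by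
      group
    rw [e2, ← ct a⁻¹]
    have e3 : a * b * (u * (a⁻¹ * v)) * u⁻¹ * b⁻¹ * v⁻¹ = a * b * (u * a⁻¹) * (v * u⁻¹) * b⁻¹ * v⁻¹ := by
      group
    rw [e3, ← cs a⁻¹, ← ct u⁻¹]
    have e4 : a * b * (a⁻¹ * u) * (u⁻¹ * v) * b⁻¹ * v⁻¹ = a * b * a⁻¹ * (v * b⁻¹) * v⁻¹ := by group
    rw [e4, ← ct b⁻¹]
    group
  have htop : (⁅(⊤ : Subgroup S), ⊤⁆ : Subgroup S) = ⊤ := hperf
  rw [htop] at hle
  apply MulEquiv.ext
  intro s
  exact hle (mem_top s)

/-- `|Aut(PSL₂(5))| = 120` -/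
theorem card_mulAut_psl25 :
    Nat.card (MulAut (Matrix.ProjectiveSpecialLinearGroup (Fin 2) (ZMod 5))) = 120 := by
  haveI : Fact (Nat.Prime 5) := ⟨by norm_num⟩
  obtain ⟨e⟩ := Cfsg.Agent.S0253.result (F := ZMod 5) (by rw [ZMod.card])
  rw [Nat.card_congr (MulAut.congr e).toEquiv]
  have hb := Cfsg.Agent.Lib.H18.conjNormal_alternating_bijective (α := Fin 5)
    (by simp) (by simp)
  rw [← Nat.card_congr (Equiv.ofBijective _ hb), Nat.card_eq_fintype_card, Fintype.card_perm,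
    Fintype.card_fin]
  rfl

/-- a perfect group isomorphic to `SL₂(5)` has at most `120` automorphisms -/
theorem card_mulAut_le {S : Type*} [Group S] [Finite S]
    (e : S ≃* Matrix.SpecialLinearGroup (Fin 2) (ZMod 5)) (hperf : commutator S = ⊤) :
    Nat.card (MulAut S) ≤ 120 := by
  haveI : Fact (Nat.Prime 5) := ⟨by norm_num⟩
  have hperf' : commutator (Matrix.SpecialLinearGroup (Fin 2) (ZMod 5)) = ⊤ := by
    have h1 := Subgroup.map_commutator (⊤ : Subgroup S) ⊤ e.toMonoidHom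
    have h2 : (⊤ : Subgroup S).map e.toMonoidHom = ⊤ := by
      rw [← MonoidHom.range_eq_map]
      exact MonoidHom.range_eq_top.mpr e.surjective
    rw [h2] at h1
    have h3 : (⁅(⊤ : Subgroup S), ⊤⁆ : Subgroup S) = ⊤ := hperf
    rw [h3, h2] at h1
    exact h1.symm
  rw [Nat.card_congr (MulAut.congr e).toEquiv, ← card_mulAut_psl25]
  haveI : Finite (MulAut (Matrix.ProjectiveSpecialLinearGroup (Fin 2) (ZMod 5))) :=
    Nat.finite_of_card_ne_zero (by rw [card_mulAut_psl25]; norm_num)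
  exact Nat.card_le_card_of_injective _ (quotCenterAut_injective hperf')

end Cfsg.Agent.Lib.H5.FC
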