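import Mathlib
import Cfsg.Agent.Lib.H5.FC.AutPerfect
import Cfsg.Agent.Lib.H4.NF.AbCyc
import Cfsg.Agent.Lib.H4.NF.Cent24
import Cfsg.Agent.Lib.H4.FC.Basic

/-!
# Nonsolvable Frobenius complements, part 1 (helper5)

Perfect core of a nonsolvable finite group; the fixed-point-free action of a Frobenius complement
on its kernel; explicit elements of `SL₂(5)`.
-/

set_option autoImplicit false

namespace Cfsg.Agent.Lib.H5.FC

open Subgroup Cfsg

/-- a nonsolvable finite group has a nontrivial perfect normal subgroup -/
theorem exists_perfect_normal {G : Type*} [Group G] [Finite G] (hns : ¬ Group.IsSolvable G) :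
    ∃ S : Subgroup G, S.Normal ∧ S ≠ ⊥ ∧ ⁅S, S⁆ = S := by
  have hle : ∀ n, derivedSeries G (n + 1) ≤ derivedSeries G n := by
    intro n
    rw [derivedSeries_succ]
    haveI := derivedSeries_normal G n
    exact commutator_le_left _ _
  have key : ∃ n, derivedSeries G (n + 1) = derivedSeries G n := by
    by_contra h
    push_neg at h
    have hlt : ∀ n, Nat.card (derivedSeries G (n + 1)) < Nat.card (derivedSeries G n) := by
      intro n
      by_contra hge
      push_neg at hge
      exact h n (eq_of_le_of_card_ge (hle n) hge)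
    have hbound : ∀ n, Nat.card (derivedSeries G n) + n ≤ Nat.card (derivedSeries G 0) := by
      intro n
      induction n with
      | zero => simp
      | succ n ih =>
        have := hlt n
        omega
    have h0 : Nat.card (derivedSeries G 0) ≤ Nat.card G := Subgroup.card_le_card_group _
    have := hbound (Nat.card G + 1)
    omega
  obtain ⟨n, hn⟩ := key
  refine ⟨derivedSeries G n, derivedSeries_normal G n, ?_, ?_⟩
  · intro hbot
    exact hns ((Group.isSolvable_def G).mpr ⟨n, hbot⟩)
  · rw [← derivedSeries_succ, hn]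

/-- `⁅S, S⁆ = S` means that `S` is perfect as a group -/
theorem commutator_eq_top_of_self {G : Type*} [Group G] (S : Subgroup G) (h : ⁅S, S⁆ = S) :
    commutator S = ⊤ := by
  have h1 := Subgroup.map_subtype_commutator S
  rw [h] at h1
  apply Subgroup.map_injective S.subtype_injective
  rw [h1]
  rw [← MonoidHom.range_eq_map, Subgroup.range_subtype]

/-- perfectness is invariant under isomorphism -/
theorem commutator_eq_top_of_mulEquiv {A B : Type*} [Group A] [Group B] (e : A ≃* B)
    (h : commutator A = ⊤) : commutator B = ⊤ := by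
  have h1 := Subgroup.map_commutator (⊤ : Subgroup A) ⊤ e.toMonoidHom
  have h2 : (⊤ : Subgroup A).map e.toMonoidHom = ⊤ := by
    rw [← MonoidHom.range_eq_map]
    exact MonoidHom.range_eq_top.mpr e.surjective
  have h3 : (⁅(⊤ : Subgroup A), ⊤⁆ : Subgroup A) = ⊤ := h
  rw [h2, h3, h2] at h1
  exact h1.symm

/-- a Frobenius complement acts faithfully and fixed-point-freely on a finite group -/
theorem exists_fpf_hom {G : Type*} [Group G] {L : Type} [Group L] [Finite L] (H : Subgroup L)
    (hH : IsFrobeniusComplement H) (e : G ≃* H) :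
    ∃ (K : Type) (_ : Group K) (_ : Finite K) (ι : G →* MulAut K), Function.Injective ι ∧
      ∀ g : G, g ≠ 1 → ∀ k : K, ι g k = k → k = 1 := by
  set N := Cfsg.Agent.Lib.H18.frobKer H hH with hNdef
  have hN : frobeniusKernel H = (N : Set L) := (Cfsg.Agent.Lib.H18.coe_frobKer H hH).symm
  haveI hNn : N.Normal := Cfsg.Agent.Lib.H20.FG.normal hH hN
  have hNbot : N ≠ ⊥ := Cfsg.Agent.Lib.H20.FG.ne_bot hH hN
  let ι : G →* MulAut N := (MulAut.conjNormal (H := N)).comp (H.subtype.comp e.toMonoidHom)
  have hfpf : ∀ g : G, g ≠ 1 → ∀ k : N, ι g k = k → k = 1 := by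
    intro g hg k hk
    have h1 : ((e g : H) : L) * (k : L) * ((e g : H) : L)⁻¹ = (k : L) := by
      have := congrArg Subtype.val hk
      simpa [ι, MulAut.conjNormal_apply] using this
    have h2 : ((e g : H) : L) * (k : L) = (k : L) * ((e g : H) : L) := by
      calc ((e g : H) : L) * (k : L) = (((e g : H) : L) * (k : L) * ((e g : H) : L)⁻¹) * ((e g : H) : L) := by
            group
        _ = (k : L) * ((e g : H) : L) := by rw [h1]
    have hne : ((e g : H) : L) ≠ 1 := by
      intro h
      apply hg
      have : e g = 1 := Subtype.ext h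
      exact e.injective (this.trans (map_one e).symm)
    have := Cfsg.Agent.Lib.H20.FG.fpf hH hN _ (e g).2 hne (k : L) k.2 h2
    exact Subtype.ext this
  refine ⟨N, inferInstance, inferInstance, ι, ?_, hfpf⟩
  rw [injective_iff_map_eq_one]
  intro g hg
  by_contra hg1
  apply hNbot
  rw [Subgroup.eq_bot_iff_forall]
  intro k hk
  have := hfpf g hg1 ⟨k, hk⟩ (by rw [hg]; rfl)
  exact congrArg Subtype.val this

end Cfsg.Agent.Lib.H5.FC
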