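import Mathlib
import Cfsg.Agent.Lib.H5.FC.Nonsolv1

/-!
# Nonsolvable Frobenius complements, part 2 (helper5)

Centralizer of a normal `SL₂(5)` in a group whose abelian subgroups are cyclic.
-/

set_option autoImplicit false

namespace Cfsg.Agent.Lib.H5.FC

open Subgroup Cfsg Matrix Cfsg.Agent.Lib.H4.NF

abbrev SL25 := Matrix.SpecialLinearGroup (Fin 2) (ZMod 5)

def x5 : SL25 := ⟨!![0, 1; -1, 0], by decide⟩
def y5 : SL25 := ⟨!![2, 0; 0, 3], by decide⟩

theorem x5_sq : x5 * x5 = -1 := by decide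
theorem y5_sq : y5 * y5 = -1 := by decide
theorem x5_y5 : x5 * y5 ≠ y5 * x5 := by decide
theorem neg_one_ne : (-1 : SL25) ≠ 1 := by decide
theorem neg_one_sq : (-1 : SL25) * (-1) = 1 := by decide

set_option maxRecDepth 100000 in
theorem center_sl25 : ∀ z : SL25, z ∈ center SL25 → z = 1 ∨ z = -1 := by decide

set_option maxRecDepth 100000 in
theorem neg_one_mem_center : (-1 : SL25) ∈ center SL25 := by
  rw [mem_center_iff]; decide

set_option maxRecDepth 100000 in
theorem fintype_card_sl25 : Fintype.card SL25 = 120 := by decide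

theorem card_sl25 : Nat.card SL25 = 120 := by
  rw [Nat.card_eq_fintype_card, fintype_card_sl25]

/-- data: a normal subgroup `S ≅ SL₂(5)` of a finite group whose abelian subgroups are cyclic -/
structure SLData (G : Type*) [Group G] [Finite G] where
  hab : AbCyc G
  S : Subgroup G
  hn : S.Normal
  e : S ≃* SL25

namespace SLData

variable {G : Type*} [Group G] [Finite G] (d : SLData G)

/-- the central involution -/
noncomputable def z : G := ((d.e.symm (-1) : d.S) : G)
noncomputable def x : G := ((d.e.symm x5 : d.S) : G)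
noncomputable def y : G := ((d.e.symm y5 : d.S) : G)

theorem z_mem : d.z ∈ d.S := (d.e.symm (-1)).2
theorem x_mem : d.x ∈ d.S := (d.e.symm x5).2
theorem y_mem : d.y ∈ d.S := (d.e.symm y5).2

theorem z_ne_one : d.z ≠ 1 := by
  intro h
  have h1 : d.e.symm (-1) = 1 := Subtype.ext h
  have h2 : (-1 : SL25) = 1 := by
    have := congrArg d.e h1
    simpa using this
  exact neg_one_ne h2

theorem x_sq : d.x * d.x = d.z := by
  show ((d.e.symm x5 : d.S) : G) * ((d.e.symm x5 : d.S) : G) = ((d.e.symm (-1) : d.S) : G)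
  rw [← Subgroup.coe_mul, ← map_mul, x5_sq]

theorem y_sq : d.y * d.y = d.z := by
  show ((d.e.symm y5 : d.S) : G) * ((d.e.symm y5 : d.S) : G) = ((d.e.symm (-1) : d.S) : G)
  rw [← Subgroup.coe_mul, ← map_mul, y5_sq]

theorem z_sq : d.z * d.z = 1 := by
  show ((d.e.symm (-1) : d.S) : G) * ((d.e.symm (-1) : d.S) : G) = 1
  rw [← Subgroup.coe_mul, ← map_mul, neg_one_sq, map_one, Subgroup.coe_one]

theorem x_y : d.x * d.y ≠ d.y * d.x := by
  intro h
  have h1 : d.e.symm x5 * d.e.symm y5 = d.e.symm y5 * d.e.symm x5 := Subtype.ext h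
  rw [← map_mul, ← map_mul] at h1
  exact x5_y5 (d.e.symm.injective h1)

theorem orderOf_z : orderOf d.z = 2 := by
  apply orderOf_eq_prime
  · rw [pow_two]; exact d.z_sq
  · exact d.z_ne_one

theorem orderOf_x : orderOf d.x = 4 := by
  have h1 : ¬ d.x ^ 2 ^ 1 = 1 := by
    rw [pow_one, pow_two, d.x_sq]; exact d.z_ne_one
  have h2 : d.x ^ 2 ^ (1 + 1) = 1 := by
    have : d.x ^ 2 ^ (1 + 1) = (d.x * d.x) * (d.x * d.x) := by
      norm_num [pow_succ, mul_assoc]
    rw [this, d.x_sq, d.z_sq]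
  exact orderOf_eq_prime_pow h1 h2

theorem orderOf_y : orderOf d.y = 4 := by
  have h1 : ¬ d.y ^ 2 ^ 1 = 1 := by
    rw [pow_one, pow_two, d.y_sq]; exact d.z_ne_one
  have h2 : d.y ^ 2 ^ (1 + 1) = 1 := by
    have : d.y ^ 2 ^ (1 + 1) = (d.y * d.y) * (d.y * d.y) := by
      norm_num [pow_succ, mul_assoc]
    rw [this, d.y_sq, d.z_sq]
  exact orderOf_eq_prime_pow h1 h2

/-- the centralizer of `S` -/
def C : Subgroup G := centralizer (d.S : Set G)

theorem C_normal : d.C.Normal := by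
  haveI := d.hn
  unfold C
  infer_instance

theorem mem_C_iff {c : G} : c ∈ d.C ↔ ∀ s ∈ d.S, s * c = c * s := by
  unfold C
  rw [mem_centralizer_iff]
  rfl

/-- `S ∩ C_G(S) = {1, z}` -/
theorem mem_S_inf_C {s : G} (hs : s ∈ d.S) (hc : s ∈ d.C) : s = 1 ∨ s = d.z := by
  have h1 : d.e ⟨s, hs⟩ ∈ center SL25 := by
    rw [mem_center_iff]
    intro g
    have h2 : d.e.symm g * ⟨s, hs⟩ = ⟨s, hs⟩ * d.e.symm g := by
      apply Subtype.ext
      exact (d.mem_C_iff.mp hc) _ (d.e.symm g).2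
    have := congrArg d.e h2
    simpa using this
  rcases center_sl25 _ h1 with h | h
  · left
    have : (⟨s, hs⟩ : d.S) = 1 := d.e.injective (h.trans (map_one d.e).symm)
    exact congrArg Subtype.val this
  · right
    have : (⟨s, hs⟩ : d.S) = d.e.symm (-1) := by
      rw [← h]; simp
    exact congrArg Subtype.val this

theorem z_mem_C : d.z ∈ d.C := by
  rw [mem_C_iff]
  intro s hs
  have h1 : (⟨s, hs⟩ : d.S) * d.e.symm (-1) = d.e.symm (-1) * ⟨s, hs⟩ := by
    apply d.e.injective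
    rw [map_mul, map_mul, MulEquiv.apply_symm_apply]
    exact mem_center_iff.mp neg_one_mem_center _
  exact congrArg Subtype.val h1

/-- every `2`-element of `C_G(S)` is `1` or `z` -/
theorem two_elt_C {t : G} (ht : t ∈ d.C) {k : ℕ} (hk : t ^ 2 ^ k = 1) : t = 1 ∨ t = d.z := by
  have htx : d.x * t = t * d.x := (d.mem_C_iff.mp ht) _ d.x_mem
  have hty : d.y * t = t * d.y := (d.mem_C_iff.mp ht) _ d.y_mem
  obtain ⟨j, -, hj⟩ := (Nat.dvd_prime_pow Nat.prime_two).mp (orderOf_dvd_of_pow_eq_one hk)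
  rcases Nat.lt_or_ge j 3 with hj3 | hj3
  · have hmem : t ∈ zpowers d.x := by
      apply d.hab.mem_zpowers d.x t htx
      rw [d.orderOf_x]
      have : orderOf t ∣ 4 := by
        rw [hj]
        exact pow_dvd_pow 2 (show j ≤ 2 by omega)
      exact orderOf_dvd_iff_pow_eq_one.mp this
    -- `t` is in `S`
    have htS : t ∈ d.S := (zpowers_le.mpr d.x_mem) hmem
    exact d.mem_S_inf_C htS ht
  · exfalso
    have h4 : 4 ∣ orderOf t := by
      rw [hj]
      exact pow_dvd_pow 2 (show 2 ≤ j by omega)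
    have hx' : d.x ∈ zpowers t := by
      apply d.hab.mem_zpowers t d.x htx.symm
      apply orderOf_dvd_iff_pow_eq_one.mp
      rw [d.orderOf_x]; exact h4
    have hy' : d.y ∈ zpowers t := by
      apply d.hab.mem_zpowers t d.y hty.symm
      apply orderOf_dvd_iff_pow_eq_one.mp
      rw [d.orderOf_y]; exact h4
    obtain ⟨a, ha⟩ := mem_zpowers_iff.mp hx'
    obtain ⟨b, hb⟩ := mem_zpowers_iff.mp hy'
    apply d.x_y
    rw [← ha, ← hb]
    exact zpow_mul_comm t a b

end SLData

end Cfsg.Agent.Lib.H5.FC
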