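import Mathlib
import Cfsg.Agent.Lib.H5.FC.Nonsolv2

/-!
# Nonsolvable Frobenius complements, part 3 (helper5)

The complement `M` of `⟨z⟩` in `C_G(S)` and the index of `S C_G(S)`.
-/

set_option autoImplicit false

namespace Cfsg.Agent.Lib.H5.FC

open Subgroup Cfsg Matrix Cfsg.Agent.Lib.H4.NF

namespace SLData

variable {G : Type*} [Group G] [Finite G] (d : SLData G)

theorem z_comm_C {c : G} (hc : c ∈ d.C) : d.z * c = c * d.z := (d.mem_C_iff.mp hc) _ d.z_mem

/-- a normal complement of `⟨z⟩` in `C_G(S)` -/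
theorem exists_complement : ∃ M : Subgroup G, M ≤ d.C ∧
    (∀ c ∈ d.C, ∃ m ∈ M, c = m ∨ c = m * d.z) ∧ d.z ∉ M ∧ ¬ 2 ∣ Nat.card M := by
  haveI : Fact (Nat.Prime 2) := ⟨Nat.prime_two⟩
  obtain ⟨P⟩ : Nonempty (Sylow 2 d.C) := inferInstance
  have hPle : ∀ t : d.C, t ∈ (P : Subgroup d.C) → (t : G) = 1 ∨ (t : G) = d.z := by
    intro t ht
    obtain ⟨k, hk⟩ := P.2 ⟨t, ht⟩
    have hk' : (t : G) ^ 2 ^ k = 1 := by
      have := congrArg (fun u : (P : Subgroup d.C) => ((u : d.C) : G)) hk
      simpa using this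
    exact d.two_elt_C t.2 hk'
  have hcent : centralizer ((P : Subgroup d.C) : Set d.C) = ⊤ := by
    rw [eq_top_iff]
    intro c _
    rw [mem_centralizer_iff]
    intro t ht
    apply Subtype.ext
    rw [Subgroup.coe_mul, Subgroup.coe_mul]
    rcases hPle t ht with h | h
    · rw [h, one_mul, mul_one]
    · rw [h]; exact d.z_comm_C c.2
  have hP : normalizer ((P : Subgroup d.C) : Set d.C) ≤ centralizer ((P : Subgroup d.C) : Set d.C) := by
    rw [hcent]; exact le_top
  set M₀ : Subgroup d.C := (MonoidHom.transferSylow P hP).ker with hM₀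
  have hcomp : IsComplement' M₀ (P : Subgroup d.C) := MonoidHom.ker_transferSylow_isComplement' P hP
  have hodd : ¬ 2 ∣ Nat.card M₀ := by
    have h1 := hcomp.card_mul_card
    have h2 := (P : Subgroup d.C).index_mul_card
    have h3 : Nat.card M₀ = (P : Subgroup d.C).index := by
      have hpos : 0 < Nat.card (P : Subgroup d.C) := Nat.card_pos
      have : Nat.card M₀ * Nat.card (P : Subgroup d.C) =
          (P : Subgroup d.C).index * Nat.card (P : Subgroup d.C) := by rw [h1, h2]
      exact Nat.eq_of_mul_eq_mul_right hpos this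
    rw [h3]
    exact P.not_dvd_index
  refine ⟨M₀.map d.C.subtype, map_subtype_le _, ?_, ?_, ?_⟩
  · intro c hc
    obtain ⟨⟨m, t⟩, hmt⟩ := hcomp.2 ⟨c, hc⟩
    have hmt' : (m : d.C) * (t : d.C) = ⟨c, hc⟩ := hmt
    have hc' : c = ((m : d.C) : G) * ((t : d.C) : G) := by
      have := congrArg Subtype.val hmt'
      rw [Subgroup.coe_mul] at this
      exact this.symm
    refine ⟨((m : d.C) : G), mem_map.mpr ⟨(m : d.C), m.2, rfl⟩, ?_⟩
    rcases hPle t t.2 with h | h
    · left; rw [hc', h, mul_one]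
    · right; rw [hc', h]
  · intro hz
    obtain ⟨z', hz', hzz⟩ := mem_map.mp hz
    have ho : orderOf z' = 2 := by
      have : orderOf ((z' : d.C) : G) = 2 := by
        have h1 : ((z' : d.C) : G) = d.z := hzz
        rw [h1]; exact d.orderOf_z
      rwa [Subgroup.orderOf_coe] at this
    have h2 : orderOf (⟨z', hz'⟩ : M₀) = 2 := by
      rw [← Subgroup.orderOf_coe]; exact ho
    apply hodd
    rw [← h2]
    exact orderOf_dvd_natCard _
  · rw [Nat.card_congr (M₀.equivMapOfInjective d.C.subtype d.C.subtype_injective).symm.toEquiv]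
    exact hodd

/-- the conjugation action on `S` -/
noncomputable def φ : G →* MulAut d.S :=
  haveI := d.hn
  MulAut.conjNormal

theorem φ_apply (g : G) (s : d.S) : ((d.φ g s : d.S) : G) = g * s * g⁻¹ := by
  haveI := d.hn
  exact MulAut.conjNormal_apply g s

theorem ker_φ : d.φ.ker = d.C := by
  ext g
  rw [MonoidHom.mem_ker, d.mem_C_iff]
  constructor
  · intro h s hs
    have h1 := congrArg (fun a : MulAut d.S => ((a ⟨s, hs⟩ : d.S) : G)) h
    simp only [φ_apply, MulAut.one_apply] at h1
    calc s * g = (g * s * g⁻¹) * g := by rw [h1]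
      _ = g * s := by group
  · intro h
    apply MulEquiv.ext
    intro s
    apply Subtype.ext
    rw [φ_apply, MulAut.one_apply]
    have := h s s.2
    calc g * s * g⁻¹ = (s * g) * g⁻¹ := by rw [this]
      _ = s := by group

end SLData

end Cfsg.Agent.Lib.H5.FC
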