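import Mathlib
import Cfsg.Agent.Lib.H5.FC.Nonsolv3

/-!
# Nonsolvable Frobenius complements, part 4 (helper5)

The structure theorem: a finite group whose abelian subgroups are cyclic and which has a perfect
normal subgroup `S ≅ SL₂(5)` has a normal subgroup `S × M` of index at most `2`.
-/

set_option autoImplicit false

namespace Cfsg.Agent.Lib.H5.FC

open Subgroup Cfsg Matrix Cfsg.Agent.Lib.H4.NF

namespace SLData

variable {G : Type*} [Group G] [Finite G] (d : SLData G)

theorem card_S : Nat.card d.S = 120 := by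
  rw [Nat.card_congr d.e.toEquiv, card_sl25]

/-- `|φ(S)| = 60` -/
theorem card_map_φ : Nat.card (d.S.map d.φ) = 60 := by
  rw [← relIndex_ker, d.ker_φ]
  -- `C ∩ S` as a subgroup of `S` is `⟨z⟩`
  set z' : d.S := d.e.symm (-1) with hz'
  have hzo : orderOf z' = 2 := by
    have : orderOf ((z' : d.S) : G) = 2 := d.orderOf_z
    rwa [Subgroup.orderOf_coe] at this
  have hsub : d.C.subgroupOf d.S = zpowers z' := by
    ext s
    rw [mem_subgroupOf]
    constructor
    · intro hs
      rcases d.mem_S_inf_C s.2 hs with h | h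
      · have : s = 1 := Subtype.ext h
        rw [this]; exact one_mem _
      · have : s = z' := Subtype.ext h
        rw [this]; exact mem_zpowers _
    · intro hs
      obtain ⟨k, rfl⟩ := mem_zpowers_iff.mp hs
      rw [Subgroup.coe_zpow]
      exact zpow_mem d.z_mem_C k
  have h1 : (d.C.subgroupOf d.S).index * Nat.card (d.C.subgroupOf d.S) = Nat.card d.S :=
    (d.C.subgroupOf d.S).index_mul_card
  rw [hsub, Nat.card_zpowers, hzo, d.card_S] at h1
  have h2 : d.C.relIndex d.S = (zpowers z').index := by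
    rw [← hsub]; rfl
  rw [h2]
  omega

/-- the index of `S C_G(S)` is `1` or `2` -/
theorem index_sup (hperf : commutator d.S = ⊤) :
    (d.S ⊔ d.C).index = 1 ∨ (d.S ⊔ d.C).index = 2 := by
  have h1 : d.S ⊔ d.C = (d.S.map d.φ).comap d.φ := by
    rw [comap_map_eq, d.ker_φ]
  rw [h1, index_comap]
  have hle : d.S.map d.φ ≤ d.φ.range := by
    rw [MonoidHom.range_eq_map]
    exact map_mono le_top
  have h2 := relIndex_mul_relIndex ⊥ (d.S.map d.φ) d.φ.range bot_le hle
  rw [relIndex_bot_left, relIndex_bot_left, d.card_map_φ] at h2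
  have h3 : Nat.card d.φ.range ≤ 120 :=
    (Subgroup.card_le_card_group _).trans (card_mulAut_le d.e hperf)
  have h4 : (d.S.map d.φ).relIndex d.φ.range ≠ 0 := by
    intro h0
    rw [h0, mul_zero] at h2
    have hpos : 0 < Nat.card d.φ.range := Nat.card_pos
    omega
  have h5 : 60 * (d.S.map d.φ).relIndex d.φ.range ≤ 120 := by rw [h2]; exact h3
  omega

/-- the structure theorem -/
theorem structure_thm (hperf : commutator d.S = ⊤) :
    ∃ G₀ : Subgroup G, G₀.Normal ∧ (G₀.index = 1 ∨ G₀.index = 2) ∧ ∃ S M : Subgroup G,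
      S ⊔ M = G₀ ∧ S ⊓ M = ⊥ ∧ (∀ s ∈ S, ∀ x ∈ M, s * x = x * s) ∧
      Nonempty (S ≃* Matrix.SpecialLinearGroup (Fin 2) (ZMod 5)) ∧
      (∀ (p : ℕ) [Fact p.Prime] (P : Sylow p M), IsCyclic P) ∧ (Nat.card M).Coprime 30 := by
  obtain ⟨M, hMC, hMcov, hzM, hModd⟩ := d.exists_complement
  haveI := d.hn
  haveI := d.C_normal
  have hinf : d.S ⊓ M = ⊥ := by
    rw [eq_bot_iff]
    intro s hs
    rw [mem_bot]
    rcases d.mem_S_inf_C hs.1 (hMC hs.2) with h | h
    · exact h
    · exfalso; apply hzM; rw [← h]; exact hs.2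
  have hsup : d.S ⊔ M = d.S ⊔ d.C := by
    apply le_antisymm
    · exact sup_le_sup_left hMC _
    · apply sup_le le_sup_left
      intro c hc
      obtain ⟨m, hm, h | h⟩ := hMcov c hc
      · rw [h]; exact (le_sup_right : M ≤ d.S ⊔ M) hm
      · rw [h]
        exact mul_mem ((le_sup_right : M ≤ d.S ⊔ M) hm) ((le_sup_left : d.S ≤ d.S ⊔ M) d.z_mem)
  have hcomm : ∀ s ∈ d.S, ∀ x ∈ M, s * x = x * s := by
    intro s hs x hx
    exact (d.mem_C_iff.mp (hMC hx)) s hs
  have hnotdvd : ∀ p : ℕ, p.Prime → p ∣ 120 → ¬ p ∣ Nat.card M ∨ p = 2 := by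
    intro p hp hp120
    by_cases h2 : p = 2
    · right; exact h2
    left
    intro hpM
    haveI : Fact p.Prime := ⟨hp⟩
    obtain ⟨m, hm⟩ := exists_prime_orderOf_dvd_card' (G := M) p hpM
    obtain ⟨s, hs⟩ := exists_prime_orderOf_dvd_card' (G := d.S) p (by rw [d.card_S]; exact hp120)
    have hm' : orderOf (m : G) = p := by rw [Subgroup.orderOf_coe]; exact hm
    have hs' : orderOf (s : G) = p := by rw [Subgroup.orderOf_coe]; exact hs
    have hmem : (m : G) ∈ zpowers (s : G) := by
      apply d.hab.mem_zpowers (s : G) (m : G) (hcomm s s.2 m m.2)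
      rw [hs', ← hm']
      exact pow_orderOf_eq_one _
    have hmS : (m : G) ∈ d.S := (zpowers_le.mpr s.2) hmem
    have : (m : G) ∈ d.S ⊓ M := ⟨hmS, m.2⟩
    rw [hinf, mem_bot] at this
    rw [this, orderOf_one] at hm'
    exact hp.one_lt.ne hm'
  refine ⟨d.S ⊔ d.C, inferInstance, d.index_sup hperf, d.S, M, hsup, hinf, hcomm, ⟨d.e⟩, ?_, ?_⟩
  · intro p hp P
    have hab : AbCyc (P : Subgroup M) := (d.hab.subgroup M).subgroup (P : Subgroup M)
    rcases cyclic_or_quat hab P.2 with hc | ⟨-, n, ⟨eq⟩⟩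
    · exact hc
    · exfalso
      apply hModd
      have h1 : Nat.card (P : Subgroup M) = 4 * 2 ^ n := by
        rw [Nat.card_congr eq.toEquiv, Nat.card_eq_fintype_card, QuaternionGroup.card]
      have h2 : Nat.card (P : Subgroup M) ∣ Nat.card M := Subgroup.card_subgroup_dvd_card _
      rw [h1] at h2
      exact dvd_trans (Dvd.intro (2 * 2 ^ n) (by ring)) h2
  · have h3 : ¬ 3 ∣ Nat.card M := by
      rcases hnotdvd 3 (by norm_num) (by norm_num) with h | h
      · exact h
      · omega
    have h5 : ¬ 5 ∣ Nat.card M := by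
      rcases hnotdvd 5 (by norm_num) (by norm_num) with h | h
      · exact h
      · omega
    have e30 : (30 : ℕ) = 2 * 3 * 5 := by norm_num
    rw [e30]
    apply Nat.Coprime.mul_right
    · apply Nat.Coprime.mul_right
      · exact ((Nat.Prime.coprime_iff_not_dvd Nat.prime_two).mpr hModd).symm
      · exact ((Nat.Prime.coprime_iff_not_dvd (by norm_num)).mpr h3).symm
    · exact ((Nat.Prime.coprime_iff_not_dvd (by norm_num)).mpr h5).symm

end SLData

end Cfsg.Agent.Lib.H5.FC
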