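import Mathlib
import Cfsg.Agent.Lib.H5.FC.Nonsolv4

/-!
# Nonsolvable Frobenius complements, part 5 (helper5)

Reduction of the structure theorem for nonsolvable Frobenius complements to Zassenhaus' theorem
on perfect groups of fixed-point-free automorphisms.
-/

set_option autoImplicit false

namespace Cfsg.Agent.Lib.H5.FC

open Subgroup Cfsg Matrix Cfsg.Agent.Lib.H4.NF

/-- Zassenhaus' theorem on perfect fixed-point-free automorphism groups (as a hypothesis) -/
def ZassenhausPerfect : Prop :=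
  ∀ (K : Type) [Group K] [Finite K] (G : Subgroup (MulAut K)),
    (∀ φ ∈ G, φ ≠ 1 → ∀ k : K, φ k = k → k = 1) → commutator G = ⊤ → G ≠ ⊥ →
    Nonempty (G ≃* Matrix.SpecialLinearGroup (Fin 2) (ZMod 5))

/-- a nonsolvable Frobenius complement has a perfect normal subgroup isomorphic to `SL₂(5)` -/
theorem exists_slData (hZ : ZassenhausPerfect) {G : Type*} [Group G] [Finite G]
    (hns : ¬ Group.IsSolvable G)
    (hFC : ∃ (L : Type) (_ : Group L) (_ : Finite L) (H : Subgroup L),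
      Cfsg.IsFrobeniusComplement H ∧ Nonempty (G ≃* H)) :
    ∃ d : SLData G, commutator d.S = ⊤ := by
  obtain ⟨L, _, _, H, hH, ⟨e⟩⟩ := hFC
  have hab : AbCyc G := Cfsg.Agent.Lib.H4.FC.abCyc_of_iso hH e
  obtain ⟨S, hSn, hSne, hSS⟩ := exists_perfect_normal hns
  have hperf : commutator S = ⊤ := commutator_eq_top_of_self S hSS
  obtain ⟨K, _, _, ι, hinj, hfpf⟩ := exists_fpf_hom H hH e
  let eS : S ≃* S.map ι := S.equivMapOfInjective ι hinj
  have h1 : ∀ φ ∈ S.map ι, φ ≠ 1 → ∀ k : K, φ k = k → k = 1 := by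
    intro φ hφ hφ1 k hk
    obtain ⟨s, -, rfl⟩ := mem_map.mp hφ
    apply hfpf s _ k hk
    rintro rfl
    exact hφ1 (map_one ι)
  have h2 : commutator (S.map ι) = ⊤ := commutator_eq_top_of_mulEquiv eS hperf
  have h3 : S.map ι ≠ ⊥ := by
    intro h
    apply hSne
    rw [eq_bot_iff]
    intro s hs
    have : ι s ∈ S.map ι := mem_map_of_mem ι hs
    rw [h, mem_bot] at this
    rw [mem_bot]
    exact hinj (this.trans (map_one ι).symm)
  obtain ⟨e'⟩ := hZ K (S.map ι) h1 h2 h3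
  exact ⟨⟨hab, S, hSn, eS.trans e'⟩, hperf⟩

/-- structure of nonsolvable Frobenius complements, modulo Zassenhaus' theorem -/
theorem nonsolvable_structure (hZ : ZassenhausPerfect) {G : Type*} [Group G] [Finite G]
    (hns : ¬ Group.IsSolvable G)
    (hFC : ∃ (L : Type) (_ : Group L) (_ : Finite L) (H : Subgroup L),
      Cfsg.IsFrobeniusComplement H ∧ Nonempty (G ≃* H)) :
    ∃ G₀ : Subgroup G, G₀.Normal ∧ (G₀.index = 1 ∨ G₀.index = 2) ∧ ∃ S M : Subgroup G,
      S ⊔ M = G₀ ∧ S ⊓ M = ⊥ ∧ (∀ s ∈ S, ∀ x ∈ M, s * x = x * s) ∧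
      Nonempty (S ≃* Matrix.SpecialLinearGroup (Fin 2) (ZMod 5)) ∧
      (∀ (p : ℕ) [Fact p.Prime] (P : Sylow p M), IsCyclic P) ∧ (Nat.card M).Coprime 30 := by
  obtain ⟨d, hperf⟩ := exists_slData hZ hns hFC
  exact d.structure_thm hperf

end Cfsg.Agent.Lib.H5.FC
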